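import Cfsg.Agent.Lib.Lie.Twisted.D4Torus
import Cfsg.Agent.Lib.Lie.Twisted.TwoGen.Basic
import Cfsg.Agent.Lib.Lie.Rel.SL2
import Cfsg.Agent.Lib.Known.ChevFixed

/-!
# Root elements, tori and rank-one subgroups under automorphisms
-/

set_option autoImplicit false

namespace CfsgLib.Known.TrialityTorus

open Cfsg.Lie (ChevalleyDatum)
open CfsgLib.Lie.Chev
open scoped MatrixGroups

variable {D : ChevalleyDatum} {X : Aux} {F : Type*} [Field F] {G : Type*} [Group G] (R : Rel D X F G)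

theorem eq_of_twisted_fixed (S : G →* G) (f : F →+* F) {T n : G} {a k : Fin D.nroots → F}
    {ρ : Equiv.Perm (Fin D.nroots)} (hT : R.IsMon T 1 a) (hn : R.IsMon n ρ k) (hS : S T = n * T * n⁻¹)
    (r s r' : Fin D.nroots) (hr : ∀ t, S (R.xe r t) = R.xe r' (f t)) (hs : ρ s = r') : a s = f (a r) := by
  obtain ⟨hk, -, -, hnc⟩ := hn s
  have hnc' := hnc (k s)⁻¹
  rw [mul_inv_cancel₀ hk, hs] at hnc'
  have e1 : S (T * R.xe r 1 * T⁻¹) = R.xe r' (f (a r)) := by
    have h := (hT r).2.2.2 1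
    rw [Equiv.Perm.one_apply, mul_one] at h
    rw [h, hr]
  have e2 : S (T * R.xe r 1 * T⁻¹) = R.xe r' (a s) := by
    rw [map_mul, map_mul, map_inv, hr, map_one, hS, ← hnc']
    have h := (hT s).2.2.2 (k s)⁻¹
    rw [Equiv.Perm.one_apply] at h
    calc _ = n * (T * R.xe s (k s)⁻¹ * T⁻¹) * n⁻¹ := by group
      _ = _ := by rw [h, hnc, hs, mul_left_comm, mul_inv_cancel₀ hk, mul_one]
  exact R.xe_inj_param (e2.symm.trans e1)

theorem slEval_of_ne (r : Fin D.nroots) (a b c d : F) (hc : c ≠ 0) :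
    R.slEval r a b c d = R.xe r (a / c) * R.ne r (-c⁻¹) * R.xe r (d / c) := by
  rw [Rel.slEval, if_neg hc]

theorem slHom_of_ne (r : Fin D.nroots) (g : SL(2, F)) {a b c d : F} (hg : g.1 = !![a, b; c, d]) (hc : c ≠ 0) :
    R.slHom r g = R.xe r (a / c) * R.ne r (-c⁻¹) * R.xe r (d / c) := by
  show R.slEval r (g.1 0 0) (g.1 0 1) (g.1 1 0) (g.1 1 1) = _
  rw [hg]
  exact slEval_of_ne R r a b c d hc

theorem slHom_diag (r : Fin D.nroots) (g : SL(2, F)) {a : F} (hg : g.1 = !![a, 0; 0, a⁻¹]) :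
    R.slHom r g = R.he r a := by
  show R.slEval r (g.1 0 0) (g.1 0 1) (g.1 1 0) (g.1 1 1) = _
  simp [hg, Rel.slEval, R.xe_zero]

theorem torus_conj_slHom {T : G} {a : Fin D.nroots → F} (hT : R.IsMon T 1 a) (r : Fin D.nroots) (g g' : SL(2, F))
    {x y c d x' y' c' d' : F} (hg : g.1 = !![x, y; c, d]) (hg' : g'.1 = !![x', y'; c', d']) (hc : c ≠ 0)
    (hc' : c' ≠ 0) (h1 : a r * (x / c) = x' / c') (h2 : a r * -c⁻¹ = -c'⁻¹) (h3 : a r * (d / c) = d' / c') :
    T * R.slHom r g * T⁻¹ = R.slHom r g' := by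
  rw [slHom_of_ne R r g hg hc, slHom_of_ne R r g' hg' hc']
  have e1 := (hT r).2.2.2 (x / c)
  have e3 := (hT r).2.2.2 (d / c)
  have e2 := Rel.IsMon.conj_ne R hT r (-c⁻¹)
  rw [Equiv.Perm.one_apply] at e1 e3 e2
  rw [← conj_mul, ← conj_mul, e1, e2, e3, h1, h2, h3]

variable {C : Cert D X} {K L : Type*} [Field K] [Field L]

theorem groupMap_ne (j : K →+* L) (r : ℕ) (c : K) :
    ChevFixed.groupMap D j ((chevRel C K).ne r c) = (chevRel C L).ne r (j c) := by
  show ChevFixed.groupMap D j ((chevRel C K).xe r c * (chevRel C K).xe (D.neg r) (-c⁻¹) * (chevRel C K).xe r c) =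
    (chevRel C L).xe r (j c) * (chevRel C L).xe (D.neg r) (-(j c)⁻¹) * (chevRel C L).xe r (j c)
  simp only [map_mul, ChevFixed.groupMap_xe, map_neg, map_inv₀]

theorem groupMap_he (j : K →+* L) (r : ℕ) (c : K) :
    ChevFixed.groupMap D j ((chevRel C K).he r c) = (chevRel C L).he r (j c) := by
  show ChevFixed.groupMap D j ((chevRel C K).ne r c * (chevRel C K).ne r (-1)) =
    (chevRel C L).ne r (j c) * (chevRel C L).ne r (-1)
  simp only [map_mul, groupMap_ne, map_neg, map_one]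

theorem groupMap_torusHom (j : K →+* L) (c : Fin D.rank → Kˣ) :
    ChevFixed.groupMap D j ((chevRel C K).torusHom c : (chevRel C K).HS) =
      ((chevRel C L).torusHom (fun i => Units.map (j : K →* L) (c i)) : (chevRel C L).HS) := by
  rw [torusHom_val, torusHom_val, map_list_prod, List.map_map]
  exact congrArg List.prod (List.map_congr_left fun i _ => groupMap_he j _ _)

theorem eq_one_of_rootValues (c : Fin D.rank → Lˣ)
    (h : ∀ s : Fin D.nroots, ∏ i : Fin D.rank, c i ^ D.cartan i s = 1) :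
    (((chevRel C L).torusHom c : (chevRel C L).HS) : ↥(D.group L)) = 1 := by
  refine chevRel_injective C L ((chevRel C L).θ_eq_of_mat ?_)
  rw [torusHom_mat C L c, (chevRel C L).mat_one, ← Matrix.diagonal_one]
  congr 1
  funext x
  cases x with
  | inl i => rfl
  | inr s => simp only [Sum.elim_inr]; rw [h s, Units.val_one]

theorem isMon_torusHom {D : ChevalleyDatum} {X : Aux} {F : Type*} [Field F] {G : Type*} [Group G]
    (R : Rel D X F G) (c : Fin D.rank → Fˣ) :
    R.IsMon ((R.torusHom c : R.HS) : G) 1 fun r => ((∏ i : Fin D.rank, c i ^ D.cartan i r : Fˣ) : F) := by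
  obtain ⟨a, ha, -⟩ := R.exists_mat_HS (R.torusHom c).2
  refine (congrArg (R.IsMon _ 1) (funext fun r => ?_)).mp ha
  have h := (ha r).2.2.2 1
  rw [R.torusHom_conj, Equiv.Perm.one_apply] at h
  simpa using (R.xe_inj_param h).symm

end CfsgLib.Known.TrialityTorus
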