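import Cfsg.Agent.Lib.Known.TrialityTorus.Exp
import Cfsg.Agent.Lib.Known.TrialityTorus.Tools
import Cfsg.Agent.Lib.Known.RegularTorus
import Cfsg.Agent.Lib.Known.PSLTori
import Cfsg.Agent.Lib.Lie.Twisted.Basic

/-!
# The cyclic self-centralising subgroup of order `(q³ - 1)(q + 1)` of `³D₄(q)`
-/

set_option autoImplicit false
set_option maxHeartbeats 1600000

namespace CfsgLib.Known.TrialityTorus

open Cfsg.Lie
open CfsgLib.Lie.Chev CfsgLib.Lie.Chev.TwGroups
open scoped MatrixGroups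

/-- the root `a`, as an index -/
def rt (a : ℕ) (h : a < chevD4.nroots := by decide +kernel) : Fin chevD4.nroots := ⟨a, h⟩

theorem table_facts :
    (∀ (i : Fin chevD4.rank) (r : Fin chevD4.nroots), chevD4.cartan i r = (cfL.getD (i : ℕ) []).getD (r : ℕ) 0) ∧
    (∀ i : Fin chevD4.rank, chevD4.cartan i 16 = chevD4.cartan i 13 + chevD4.cartan i 14 ∧
      chevD4.cartan i 15 = chevD4.cartan i 12 + chevD4.cartan i 14 ∧
      chevD4.cartan i 19 = chevD4.cartan i 18 + chevD4.cartan i 14) ∧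
    (auxD4.w 1 16 = 13 ∧ auxD4.w 1 15 = 12 ∧ auxD4.w 1 19 = 18 ∧ auxD4.w 1 9 = 14) ∧
    (half chevD4 = 12 ∧ chevD4.nroots = 24) ∧
    (∀ r : Fin chevD4.nroots, auxD4.coef 1 r ≠ -4) ∧
    ([auxD4.coef 0 23, auxD4.coef 1 23, auxD4.coef 2 23, auxD4.coef 3 23] = [1, 2, 1, 1] ∧
      [auxD4.coef 1 18, auxD4.coef 1 0, auxD4.coef 1 13, auxD4.coef 1 12] = [0, -2, 0, 0]) := by
  decide +kernel

/-- the value of a torus element at a root -/
def valT {L : Type*} [Field L] (c : Fin chevD4.rank → Lˣ) (r : Fin chevD4.nroots) : Lˣ :=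
  ∏ i : Fin chevD4.rank, c i ^ chevD4.cartan i r

theorem valT_tup {L : Type*} [Field L] (z0 z1 z2 z3 : Lˣ) (r : Fin chevD4.nroots) :
    valT (tupD4 z0 z1 z2 z3) r = z0 ^ ((cfL.getD 0 []).getD (r : ℕ) 0) * z1 ^ ((cfL.getD 1 []).getD (r : ℕ) 0) *
      z2 ^ ((cfL.getD 2 []).getD (r : ℕ) 0) * z3 ^ ((cfL.getD 3 []).getD (r : ℕ) 0) := by
  unfold valT
  simp only [table_facts.1 _ r]
  change (∏ i : Fin 4, [z0, z1, z2, z3].getD (i : ℕ) 1 ^ ((cfL.getD (i : ℕ) []).getD (r : ℕ) 0)) = _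
  rw [Fin.prod_univ_four]
  rfl

theorem valT_mul {L : Type*} [Field L] (c d : Fin chevD4.rank → Lˣ) (r : Fin chevD4.nroots) :
    valT (c * d) r = valT c r * valT d r := by
  simp [valT, mul_zpow, Finset.prod_mul_distrib]

theorem valT_add {L : Type*} [Field L] (c : Fin chevD4.rank → Lˣ) (r s w : Fin chevD4.nroots)
    (h : ∀ i : Fin chevD4.rank, chevD4.cartan i w = chevD4.cartan i r + chevD4.cartan i s) :
    valT c w = valT c r * valT c s := by
  simp [valT, h, zpow_add, Finset.prod_mul_distrib]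

theorem fib_fixed : ∀ b r : Fin 24, ((r : ℕ) = 18 ∨ (r : ℕ) = 13 ∨ (r : ℕ) = 12) → fib b r = true → False := by
  decide +kernel

theorem expo_sub (q : ℤ) (d e : Fin 4 → ℤ) : expo q d - expo q e = expo q fun i => d i - e i := by
  simp only [expo]; ring

theorem torus_eq_of_simple {L : Type*} [Field L] (c d : Fin chevD4.rank → Lˣ)
    (h0 : valT c (rt 18) = valT d (rt 18)) (h1 : valT c (rt 14) = valT d (rt 14))
    (h2 : valT c (rt 13) = valT d (rt 13)) (h3 : valT c (rt 12) = valT d (rt 12)) :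
    (chevRel certD4 L).torusHom c = (chevRel certD4 L).torusHom d := by
  have hk : c / d ∈ (chevRel certD4 L).torusHom.ker := by
    rw [mem_torusHom_ker, MonoidHom.mem_ker]
    funext k
    rw [powMat_apply, Pi.one_apply]
    obtain ⟨-, -, -, -, ⟨s0, s1, s2, s3⟩, -⟩ := negD4
    have hk : ∀ i : Fin chevD4.rank, ((cmat chevD4).getD (i : ℕ) []).getD (k : ℕ) 0 = chevD4.cartan i (chevD4.simple k) := fun i => by
      simp [cmat, List.getD_eq_getElem?_getD, i.2, k.2]
    simp only [Matrix.of_apply, hk]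
    have hval : ∀ r : Fin chevD4.nroots, valT c r = valT d r → ∏ i, (c / d) i ^ chevD4.cartan i r = 1 := by
      intro r hr
      simp only [Pi.div_apply, div_zpow, Finset.prod_div_distrib]
      exact div_eq_one.2 hr
    obtain ⟨k, hk'⟩ := k
    have hk4 : k < 4 := hk'
    interval_cases k
    · simp only [s0]; exact hval (rt 18) h0
    · simp only [s1]; exact hval (rt 14) h1
    · simp only [s2]; exact hval (rt 13) h2
    · simp only [s3]; exact hval (rt 12) h3
  rw [MonoidHom.mem_ker, map_div, div_eq_one] at hk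
  exact hk

theorem exists_torus_d4_of_extension {K : Type*} [Field K] [Fintype K] {L : Type*} [Field L] [Fintype L] [Algebra K L]
    (q : ℕ) (hq : IsPrimePow q) (hK : Fintype.card K = q ^ 3) (hL : Fintype.card L = q ^ 6) :
    ∃ H : Subgroup ↥(twistedD4 K q), IsCyclic ↥H ∧ Nat.card ↥H = (q ^ 3 - 1) * (q + 1) ∧
      Subgroup.centralizer (H : Set ↥(twistedD4 K q)) = H := by
  classical
  have hq2 := hq.two_le
  obtain ⟨f, hf⟩ : ∃ f : L →+* L, ∀ x, f x = x ^ q := exists_powHom hq (by norm_num) hL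
  obtain ⟨ι, hι⟩ : ∃ ι : K →+* L, ι = algebraMap K L := ⟨_, rfl⟩
  obtain ⟨J, hJ⟩ : ∃ J, J = ChevFixed.groupMap chevD4 ι := ⟨_, rfl⟩
  obtain ⟨S, hS⟩ : ∃ S : ↥(chevD4.group L) →* ↥(chevD4.group L),
      S = (twEnd certD4 (twField_one L) twOkD4 twPerD4 witD4 connD4).comp (powEnd f) := ⟨_, rfl⟩
  have hSgen : ∀ (r : ℕ) (t : L), S (xG certD4 L r t) = xG certD4 L (twAt chevD4 twTD4 r).1
      (((twAt chevD4 twTD4 r).2.1 : L) * (f t) ^ (twAt chevD4 twTD4 r).2.2) := fun r t => by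
    rw [hS, MonoidHom.comp_apply, powEnd_gen, twEnd_gen]; rfl
  have hS1 : ∀ {r r' : ℕ}, twAt chevD4 twTD4 r = (r', 1, 1) → ∀ t : L,
      S ((chevRel certD4 L).xe r t) = (chevRel certD4 L).xe r' (f t) := by
    intro r r' h t
    show S (xG certD4 L r t) = xG certD4 L r' (f t)
    rw [hSgen, h]; simp
  have hSJ : S.comp J = J.comp (σD4 hq hK) := by
    refine MonoidHom.eq_of_eqOn_dense (chevRel certD4 K).gen ?_
    rintro _ ⟨r, t, rfl⟩
    show S (J (xG certD4 K r t)) = J (σD4 hq hK (xG certD4 K r t))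
    rw [σD4_gen hq hK, hJ]
    refine ((congrArg S (ChevFixed.groupMap_xe certD4 ι r t)).trans (hSgen r (ι t))).trans ?_
    refine Eq.trans ?_ (ChevFixed.groupMap_xe certD4 ι _ _).symm
    rw [map_mul, map_pow, map_intCast, frD4_apply, map_pow, hf]
    rfl
  have hdesc : ∀ x : L, x ^ q = x → ∃ c : K, ι c = x ∧ c ^ q = c := by
    intro x hx
    obtain ⟨c, hc⟩ : ∃ c : K, ι c = x := by
      rcases eq_or_ne x 0 with rfl | hx0
      · exact ⟨0, map_zero _⟩
      · rw [hι]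
        refine PSLTori.exists_algebraMap_eq (F := K) x (mul_right_cancel₀ hx0 ?_)
        rw [hK, ← pow_succ, Nat.sub_add_cancel (Nat.one_le_pow _ _ hq.pos), pow_succ q 2, sq, pow_mul, pow_mul,
          hx, hx, hx, one_mul]
    exact ⟨c, hc, ι.injective (by rw [map_pow, hc, hx])⟩
  -- the field elements
  obtain ⟨z, hz⟩ := IsCyclic.exists_ofOrder_eq_natCard (α := Lˣ)
  rw [Nat.card_units, Nat.card_eq_fintype_card, hL] at hz
  obtain ⟨A, hA⟩ : ∃ A : Lˣ, A = z ^ (q ^ 3 + 1) := ⟨_, rfl⟩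
  obtain ⟨u, hu⟩ : ∃ u : Lˣ, u = z ^ (q ^ 4 + q ^ 2 + 1) := ⟨_, rfl⟩
  have h8 : 8 ≤ q ^ 3 := Nat.pow_le_pow_left hq2 3
  have h4 : 4 ≤ q ^ 2 := Nat.pow_le_pow_left hq2 2
  have e6 : q ^ 6 - 1 = (q ^ 3 + 1) * (q ^ 3 - 1) := by
    rw [show q ^ 6 = q ^ 3 * q ^ 3 by ring]
    obtain ⟨m, hm⟩ : ∃ m, q ^ 3 = m + 1 := ⟨q ^ 3 - 1, by omega⟩
    rw [hm, Nat.add_sub_cancel]
    refine Nat.sub_eq_of_eq_add ?_
    ring
  have e6' : q ^ 6 - 1 = (q ^ 4 + q ^ 2 + 1) * (q ^ 2 - 1) := by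
    rw [show q ^ 6 = q ^ 2 * q ^ 2 * q ^ 2 by ring, show q ^ 4 = q ^ 2 * q ^ 2 by ring]
    obtain ⟨m, hm⟩ : ∃ m, q ^ 2 = m + 1 := ⟨q ^ 2 - 1, by omega⟩
    rw [hm, Nat.add_sub_cancel]
    refine Nat.sub_eq_of_eq_add ?_
    ring
  have hAord : orderOf A = q ^ 3 - 1 := by
    rw [hA, orderOf_pow_of_dvd (by omega) (by rw [hz, e6]; exact dvd_mul_right _ _), hz, e6,
      Nat.mul_div_cancel_left _ (by omega)]
  have huord : orderOf u = q ^ 2 - 1 := by
    rw [hu, orderOf_pow_of_dvd (by omega) (by rw [hz, e6']; exact dvd_mul_right _ _), hz, e6',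
      Nat.mul_div_cancel_left _ (by omega)]
  have hAu : A ^ (1 + q + q * q) = u * u ^ q := by
    rw [← pow_succ', hA, hu, ← pow_mul, ← pow_mul]
    congr 1
    ring
  have hu2 : ((u : L) ^ q) ^ q = u := by
    rw [← Units.val_pow_eq_pow_val, ← Units.val_pow_eq_pow_val, ← pow_mul, ← sq,
      show q ^ 2 = orderOf u + 1 by omega, pow_succ, pow_orderOf_eq_one, one_mul]
  have hne : (u : L) ^ q - u ≠ 0 := by
    rw [sub_ne_zero, ← Units.val_pow_eq_pow_val]
    intro h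
    have h' : u ^ (q - 1) = 1 := by
      refine mul_eq_right.1 (?_ : u ^ (q - 1) * u = u)
      rw [← pow_succ, Nat.sub_add_cancel hq.pos]
      exact Units.ext h
    have h1 := Nat.le_of_dvd (by omega) (orderOf_dvd_of_pow_eq_one h')
    have : 2 * q ≤ q ^ 2 := by rw [sq]; exact Nat.mul_le_mul_right q hq2
    omega
  -- the torus element
  obtain ⟨a0, ha0⟩ : ∃ a0 : Kˣ, ι (a0 : K) = (A : L) := by
    obtain ⟨c, hc⟩ := PSLTori.exists_algebraMap_eq (F := K) (A : L) (by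
      rw [hK, ← hAord, ← Units.val_pow_eq_pow_val, pow_orderOf_eq_one, Units.val_one])
    refine ⟨Units.mk0 c fun h => A.ne_zero ?_, by rw [hι]; exact hc⟩
    rw [← hc, h, map_zero]
  obtain ⟨N0, hN0, hN0q⟩ := hdesc ((u : L) * (u : L) ^ q) (by rw [mul_pow, hu2, mul_comm])
  obtain ⟨T0, hT0, hT0q⟩ := hdesc ((u : L) + (u : L) ^ q) (by rw [← hf, map_add, hf, hf, hu2, add_comm])
  have hN00 : N0 ≠ 0 := fun h => by simp [h, u.ne_zero] at hN0
  obtain ⟨m0, hm0⟩ : ∃ m0 : SL(2, K), m0.1 = !![0, -N0; N0⁻¹, T0 / N0] :=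
    ⟨⟨_, by rw [Matrix.det_fin_two_of]; simp [hN00]⟩, rfl⟩
  obtain ⟨g0, hg0⟩ : ∃ g0, g0 = psiD4 K q (1, a0) * (chevRel certD4 K).slHom (rt 14) m0 := ⟨_, rfl⟩
  obtain ⟨⟨n18, n13, n12, n14⟩, -, -, -, ⟨s0, s1, s2, s3⟩, -⟩ := negD4
  have hg0mem : g0 ∈ (twistedD4 K q).subgroupOf (chevD4.group K) := by
    rw [hg0]
    refine mul_mem (Subgroup.mem_inf.1 (psiD4_mem hq hK _)).1 ?_
    rw [slHom_of_ne _ _ _ hm0 (inv_ne_zero hN00), zero_div, (chevRel certD4 K).xe_zero, one_mul, inv_inv,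
      div_inv_eq_mul, div_mul_cancel₀ _ hN00]
    refine mul_mem ?_ (wordD4_single_mem (r := 14) (by decide) hT0q)
    show xG certD4 K 14 (-N0) * xG certD4 K (chevD4.neg 14) (-(-N0)⁻¹) * xG certD4 K 14 (-N0) ∈ _
    rw [n14, inv_neg, neg_neg]
    exact mul_mem (mul_mem (wordD4_single_mem (r := 14) (by decide) (by rw [neg_pow_D4 hq hK, hN0q]))
      (wordD4_single_mem (r := 9) (by decide) (by rw [inv_pow, hN0q])))
      (wordD4_single_mem (r := 14) (by decide) (by rw [neg_pow_D4 hq hK, hN0q]))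
  obtain ⟨t, ht⟩ : ∃ t : ↥(twistedD4 K q), t = ⟨(g0 : GL chevD4.Idx K), hg0mem⟩ := ⟨_, rfl⟩
  obtain ⟨Φ, hΦ⟩ : ∃ Φ : ↥(twistedD4 K q) →* ↥(chevD4.group L), Φ = J.comp (Subgroup.inclusion twD4_le) := ⟨_, rfl⟩
  have hΦinj : Function.Injective Φ := by
    rw [hΦ, hJ]
    exact (ChevFixed.groupMap_injective ι).comp (Subgroup.inclusion_injective _)
  have hΦfix : ∀ x, S (Φ x) = Φ x := by
    intro x
    have h := (twD4 hq hK).hfix (Subgroup.inclusion twD4_le x) x.2
    rw [hΦ, MonoidHom.comp_apply, ← MonoidHom.comp_apply S J, hSJ, MonoidHom.comp_apply]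
    exact congrArg J h
  -- the conjugating element
  obtain ⟨s, hs⟩ : ∃ s : L, s = ((u : L) ^ q - u)⁻¹ := ⟨_, rfl⟩
  have hs0 : s ≠ 0 := hs ▸ inv_ne_zero hne
  have hsd : s * ((u : L) ^ q - u) = 1 := by rw [hs]; exact inv_mul_cancel₀ hne
  have hN : ((u : L) * (u : L) ^ q) ≠ 0 := mul_ne_zero u.ne_zero (pow_ne_zero _ u.ne_zero)
  obtain ⟨y, hy⟩ : ∃ y : SL(2, L), y.1 = !![s, s * u; 1, (u : L) ^ q] :=
    ⟨⟨_, by rw [Matrix.det_fin_two_of]; linear_combination hsd⟩, rfl⟩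
  obtain ⟨y', hy'⟩ : ∃ y' : SL(2, L),
      y'.1 = !![s, s * u * ((u : L) * (u : L) ^ q); ((u : L) * (u : L) ^ q)⁻¹, (u : L) ^ q] :=
    ⟨⟨_, by rw [Matrix.det_fin_two_of]; field_simp; linear_combination hsd⟩, rfl⟩
  obtain ⟨m, hm⟩ : ∃ m : SL(2, L), m.1 = !![0, -((u : L) * (u : L) ^ q); ((u : L) * (u : L) ^ q)⁻¹,
      ((u : L) + (u : L) ^ q) / ((u : L) * (u : L) ^ q)] :=
    ⟨⟨_, by rw [Matrix.det_fin_two_of]; field_simp; ring⟩, rfl⟩
  obtain ⟨du, hdu⟩ : ∃ du : SL(2, L), du.1 = !![(u : L), 0; 0, (u : L)⁻¹] :=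
    ⟨⟨_, by rw [Matrix.det_fin_two_of]; simp⟩, rfl⟩
  have hym : y' * m = du * y := by
    refine Subtype.ext ?_
    rw [Rel.sl_mul_val, Rel.sl_mul_val, hy', hm, hdu, hy]
    ext i j
    fin_cases i <;> fin_cases j <;> simp [Matrix.mul_apply, Fin.sum_univ_two] <;> field_simp <;> ring
  obtain ⟨cT, hcT⟩ : ∃ cT : Fin chevD4.rank → Lˣ, cT = tupD4 A u (A ^ q) ((A ^ q) ^ q) := ⟨_, rfl⟩
  obtain ⟨cA, hcA⟩ : ∃ cA : Fin chevD4.rank → Lˣ, cA = tupD4 A 1 (A ^ q) ((A ^ q) ^ q) := ⟨_, rfl⟩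
  obtain ⟨Y, hY⟩ : ∃ Y, Y = (chevRel certD4 L).slHom (rt 14) y := ⟨_, rfl⟩
  have hΦt : Φ t = ((chevRel certD4 L).torusHom cA : (chevRel certD4 L).HS) * (chevRel certD4 L).slHom (rt 14) m := by
    rw [hΦ, ht, MonoidHom.comp_apply]
    show J g0 = _
    rw [hg0, map_mul, hJ]
    congr 1
    · rw [psiD4_apply, groupMap_torusHom]
      refine congrArg (fun c => (((chevRel certD4 L).torusHom c : (chevRel certD4 L).HS) : ↥(chevD4.group L))) ?_
      rw [hcA]
      funext i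
      obtain ⟨i, hi⟩ := i
      have hi4 : i < 4 := hi
      interval_cases i <;> refine Units.ext ?_ <;> simp [tupD4, ha0]
    · rw [slHom_of_ne _ _ _ hm0 (inv_ne_zero hN00), slHom_of_ne _ _ _ hm (inv_ne_zero hN), map_mul, map_mul,
        ChevFixed.groupMap_xe, ChevFixed.groupMap_xe, groupMap_ne]
      simp [map_div₀, hN0, hT0]
      congr 1
      field_simp
  have hprodA : A * A ^ q * (A ^ q) ^ q = u * u ^ q := by rw [← hAu, ← pow_mul, pow_add, pow_add, pow_one]
  have hA14 : ((∏ i : Fin chevD4.rank, cA i ^ chevD4.cartan i (rt 14 : ℕ) : Lˣ) : L) =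
      ((u : L) * (u : L) ^ q)⁻¹ := by
    have h : valT cA (rt 14) = (u * u ^ q)⁻¹ := by
      rw [hcA, valT_tup]
      simp [rt, cfL, ← hprodA, mul_comm, mul_left_comm]
    refine (congrArg Units.val h).trans ?_
    rw [Units.val_inv_eq_inv_val, Units.val_mul, Units.val_pow_eq_pow_val]
  have hYt : Y * Φ t * Y⁻¹ = ((chevRel certD4 L).torusHom cT : (chevRel certD4 L).HS) := by
    have hconj := torus_conj_slHom (chevRel certD4 L) (isMon_torusHom (chevRel certD4 L) cA) (rt 14) y' y hy' hy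
      (inv_ne_zero hN) one_ne_zero (by rw [hA14]; field_simp)
      (by rw [hA14]; field_simp) (by rw [hA14]; field_simp)
    rw [hY, hΦt, ← hconj]
    calc _ = ((chevRel certD4 L).torusHom cA : (chevRel certD4 L).HS) * ((chevRel certD4 L).slHom (rt 14) y' *
          (chevRel certD4 L).slHom (rt 14) m * ((chevRel certD4 L).slHom (rt 14) y)⁻¹) := by
          rw [← hconj]; group
      _ = _ := by
        rw [← map_mul, hym, map_mul, mul_inv_cancel_right, slHom_diag _ _ _ hdu]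
        have e : cT = cA * tupD4 1 u 1 1 := by
          funext i
          obtain ⟨i, hi⟩ := i
          have hi4 : i < 4 := hi
          interval_cases i <;> simp [hcT, hcA, tupD4]
        rw [e, map_mul, Subgroup.coe_mul, tupD4_val (K := L) 1 u 1 1]
        simp [(chevRel certD4 L).he_one, rt]
  have hSY : S Y = (chevRel certD4 L).ne 14 (-s) * Y := by
    obtain ⟨w, hw⟩ : ∃ w : SL(2, L), w.1 = !![0, -s; s⁻¹, 0] :=
      ⟨⟨_, by rw [Matrix.det_fin_two_of]; field_simp; ring⟩, rfl⟩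
    obtain ⟨y1, hy1⟩ : ∃ y1 : SL(2, L), y1.1 = !![-s, -s * (u : L) ^ q; 1, (u : L)] :=
      ⟨⟨_, by rw [Matrix.det_fin_two_of]; linear_combination hsd⟩, rfl⟩
    have hwy : w * y = y1 := by
      refine Subtype.ext ?_
      rw [Rel.sl_mul_val, hw, hy, hy1]
      ext i j
      fin_cases i <;> fin_cases j <;> simp [Matrix.mul_apply, Fin.sum_univ_two, hs0]
    have hwv : (chevRel certD4 L).slHom (rt 14) w = (chevRel certD4 L).ne 14 (-s) := by
      rw [slHom_of_ne _ _ _ hw (inv_ne_zero hs0)]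
      simp [(chevRel certD4 L).xe_zero, rt]
    rw [← hwv, hY, ← map_mul, hwy, slHom_of_ne _ _ _ hy one_ne_zero, slHom_of_ne _ _ _ hy1 one_ne_zero,
      map_mul, map_mul]
    obtain ⟨⟨-, -, -, a4⟩, ⟨-, -, -, b4⟩⟩ := twAtD4
    have hfs : f s = -s := by
      rw [hs, map_inv₀, map_sub, hf, hf, hu2, ← inv_neg, neg_sub]
    have hne' : ∀ c : L, S ((chevRel certD4 L).ne 14 c) = (chevRel certD4 L).ne 14 (f c) := by
      intro c
      show S ((chevRel certD4 L).xe 14 c * (chevRel certD4 L).xe (chevD4.neg 14) (-c⁻¹) *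
        (chevRel certD4 L).xe 14 c) = (chevRel certD4 L).xe 14 (f c) *
          (chevRel certD4 L).xe (chevD4.neg 14) (-(f c)⁻¹) * (chevRel certD4 L).xe 14 (f c)
      rw [n14, map_mul, map_mul, hS1 a4, hS1 b4, map_neg, map_inv₀]
    show S ((chevRel certD4 L).xe 14 _) * S ((chevRel certD4 L).ne 14 _) * S ((chevRel certD4 L).xe 14 _) = _
    rw [hS1 a4, hS1 a4, hne']
    have hfu : f (u : L) = (u : L) ^ q := hf _
    simp [hfs, hfu, hu2, rt]
  -- regularity
  obtain ⟨M, hM⟩ : ∃ M : ℤ, M = (q : ℤ) ^ 6 - 1 := ⟨_, rfl⟩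
  have hMz : (orderOf z : ℤ) = M := by
    rw [hz, hM, Nat.cast_sub (Nat.one_le_pow _ _ hq.pos)]; push_cast; rfl
  have hexp : ∀ r : Fin chevD4.nroots, valT cT r = z ^ expo q (fun i => cf i r) := by
    intro r
    rw [hcT, valT_tup, hA, hu]
    simp only [← zpow_natCast, ← zpow_mul, ← zpow_add]
    congr 1
    simp only [expo, cf, show ((0 : Fin 4) : ℕ) = 0 from rfl, show ((1 : Fin 4) : ℕ) = 1 from rfl,
      show ((2 : Fin 4) : ℕ) = 2 from rfl, show ((3 : Fin 4) : ℕ) = 3 from rfl]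
    push_cast
    ring
  have hreg : ∀ {g : ↥(chevD4.group L)}, g * (Y * Φ t * Y⁻¹) = (Y * Φ t * Y⁻¹) * g →
      g ∈ (chevRel certD4 L).HS := by
    intro g hg
    rw [hYt] at hg
    refine RegularTorus.mem_HS_of_commute' (chevRel certD4 L) (SetLike.coe_mem _)
      (isMon_torusHom (chevRel certD4 L) cT) (fun r h => ?_) (fun n hn => ?_) hg
    · have h' : valT cT r = 1 := Units.ext h
      rw [hexp, ← orderOf_dvd_iff_zpow_eq_one, hMz, hM] at h'
      exact not_dvd hq2 r h'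
    · have key : ∀ r : Fin chevD4.nroots, (chevRel certD4 L).nsPerm n r = r ∨
          (q = 2 ∧ fib ((chevRel certD4 L).nsPerm n r) r = true) := by
        intro r
        have h' : valT cT ((chevRel certD4 L).nsPerm n r) = valT cT r := Units.ext (hn r)
        rw [hexp, hexp, ← div_eq_one, div_eq_mul_inv, ← zpow_sub, ← orderOf_dvd_iff_zpow_eq_one, hMz, hM, expo_sub] at h'
        exact eq_of_dvd hq2 _ r h'
      have hfx : ∀ a, a = 18 ∨ a = 13 ∨ a = 12 → ∀ h, (chevRel certD4 L).nsPerm n (rt a h) = rt a h := by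
        intro a ha h
        refine (key _).resolve_right fun hr => ?_
        exact fib_fixed _ (rt a h) ha hr.2
      refine (chevRel certD4 L).nsPerm_eq_one_of_pos n fun i => ?_
      obtain ⟨i, hi⟩ := i
      have hi4 : i < 4 := hi
      have hsr : ∀ (a : ℕ) (h : a < chevD4.nroots), chevD4.simple i = a →
          (chevRel certD4 L).sroot ⟨i, hi⟩ = rt a h := fun a h e => Fin.ext e
      obtain ⟨-, -, -, ⟨hh, -⟩, hco, hc23, hc0⟩ := table_facts
      rw [hh]
      interval_cases i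
      · rw [hsr 18 (by decide +kernel) s0, hfx 18 (by simp)]; decide +kernel
      · rw [hsr 14 (by decide +kernel) s1]
        rcases key (rt 14) with h | ⟨-, h⟩
        · rw [h]; decide +kernel
        · have hb : ∀ b : Fin chevD4.nroots, fib b (rt 14) = true → 12 ≤ (b : ℕ) ∨ (b : ℕ) = 0 := by decide +kernel
          refine (hb _ h).resolve_right fun h0 => hco ((chevRel certD4 L).nsPerm n (rt 23)) ?_
          have hlin := (chevRel certD4 L).isLin_nsPerm n (rt 23) ⟨1, by decide +kernel⟩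
          refine hlin.trans ?_
          change (∑ i : Fin 4, auxD4.coef i 23 *
            auxD4.coef 1 ((chevRel certD4 L).nsPerm n ((chevRel certD4 L).sroot i) : ℕ)) = -4
          rw [Fin.sum_univ_four]
          have q0 : (chevRel certD4 L).sroot (0 : Fin 4) = rt 18 := Fin.ext s0
          have q1 : (chevRel certD4 L).sroot (1 : Fin 4) = rt 14 := Fin.ext s1
          have q2 : (chevRel certD4 L).sroot (2 : Fin 4) = rt 13 := Fin.ext s2
          have q3 : (chevRel certD4 L).sroot (3 : Fin 4) = rt 12 := Fin.ext s3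
          rw [q0, q1, q2, q3, hfx 18 (by simp), hfx 13 (by simp), hfx 12 (by simp), h0]
          simp only [List.cons.injEq] at hc23 hc0
          simp [rt, hc23, hc0]
      · rw [hsr 13 (by decide +kernel) s2, hfx 13 (by simp)]; decide +kernel
      · rw [hsr 12 (by decide +kernel) s3, hfx 12 (by simp)]; decide +kernel
  -- the elements commuting with the torus element
  have key : ∀ x, x * t = t * x → ∃ c : Fin chevD4.rank → Lˣ,
      Y * Φ x * Y⁻¹ = ((chevRel certD4 L).torusHom c : (chevRel certD4 L).HS) ∧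
      valT c (rt 18) ^ ((q ^ 3 - 1) * (q + 1)) = 1 ∧ valT c (rt 14) = valT c (rt 18) ^ (q ^ 3) / valT c (rt 18) ∧
      valT c (rt 13) = valT c (rt 18) ^ q / valT c (rt 14) ∧ valT c (rt 12) = (valT c (rt 18) ^ q) ^ q := by
    intro x hx
    obtain ⟨c, hc⟩ := (chevRel certD4 L).torusHom_surjective ⟨_, hreg (g := Y * Φ x * Y⁻¹) (by
      rw [conj_mul, conj_mul, ← map_mul, ← map_mul, hx])⟩
    have hc' : (((chevRel certD4 L).torusHom c : (chevRel certD4 L).HS) : ↥(chevD4.group L)) = Y * Φ x * Y⁻¹ :=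
      congrArg Subtype.val hc
    refine ⟨c, hc'.symm, ?_⟩
    obtain ⟨T, hTdef⟩ : ∃ T : ↥(chevD4.group L), T = ((chevRel certD4 L).torusHom c : (chevRel certD4 L).HS) :=
      ⟨_, rfl⟩
    have hST : S T = (chevRel certD4 L).ne 14 (-s) * T * ((chevRel certD4 L).ne 14 (-s))⁻¹ := by
      rw [hTdef, hc', map_mul, map_mul, map_inv, hSY, hΦfix]; group
    have hTm := hTdef ▸ isMon_torusHom (chevRel certD4 L) c
    have hnm : (chevRel certD4 L).IsMon ((chevRel certD4 L).ne 14 (-s)) ((chevRel certD4 L).wperm ⟨1, by decide +kernel⟩)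
        _ := s1 ▸ (chevRel certD4 L).isMon_ne_simple ⟨1, by decide +kernel⟩ (neg_ne_zero.2 hs0)
    obtain ⟨-, hadd, ⟨w16, w15, w19, w9⟩, -⟩ := table_facts
    obtain ⟨⟨a1, a2, a3, a4⟩, -⟩ := twAtD4
    have heq : ∀ (r s' r' : Fin chevD4.nroots), twAt chevD4 twTD4 r = ((r' : ℕ), 1, 1) → auxD4.w 1 s' = r' →
        ((valT c s' : Lˣ) : L) = ((valT c r : Lˣ) : L) ^ q := by
      intro r s' r' h1 h2
      rw [← hf]
      exact eq_of_twisted_fixed (chevRel certD4 L) S f hTm hnm hST r s' r' (hS1 h1) (Fin.ext h2)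
    have u1 : valT c (rt 13) * valT c (rt 14) = valT c (rt 18) ^ q := by
      rw [← valT_add c (rt 13) (rt 14) (rt 16) fun i => (hadd i).1]
      exact Units.ext (by rw [Units.val_pow_eq_pow_val]; exact heq (rt 18) (rt 16) (rt 13) a1 w16)
    have u2 : valT c (rt 12) * valT c (rt 14) = valT c (rt 13) ^ q := by
      rw [← valT_add c (rt 12) (rt 14) (rt 15) fun i => (hadd i).2.1]
      exact Units.ext (by rw [Units.val_pow_eq_pow_val]; exact heq (rt 13) (rt 15) (rt 12) a2 w15)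
    have u3 : valT c (rt 18) * valT c (rt 14) = valT c (rt 12) ^ q := by
      rw [← valT_add c (rt 18) (rt 14) (rt 19) fun i => (hadd i).2.2]
      exact Units.ext (by rw [Units.val_pow_eq_pow_val]; exact heq (rt 12) (rt 19) (rt 18) a3 w19)
    have u4 : (valT c (rt 14))⁻¹ = valT c (rt 14) ^ q := by
      have h9 : (chevRel certD4 L).negF (rt 14) = rt 9 := Fin.ext n14
      have hi := (isMon_torusHom (chevRel certD4 L) c (rt 14)).2.1
      rw [h9] at hi
      refine Units.ext ?_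
      rw [Units.val_inv_eq_inv_val, Units.val_pow_eq_pow_val]
      exact hi.symm.trans (heq (rt 14) (rt 9) (rt 14) a4 w9)
    generalize valT c (rt 18) = a at u1 u3 ⊢
    generalize valT c (rt 14) = b at u1 u2 u3 u4 ⊢
    generalize valT c (rt 13) = cc at u1 u2 ⊢
    generalize valT c (rt 12) = e at u2 u3 ⊢
    have hcc : cc = a ^ q / b := eq_div_iff_mul_eq'.2 u1
    have he : e = (a ^ q) ^ q := by
      have h5 : e * b = (a ^ q) ^ q / b ^ q := by rw [u2, hcc, div_pow]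
      rw [← u4, div_inv_eq_mul] at h5
      exact mul_right_cancel h5
    have hb : b = a ^ (q ^ 3) / a := by
      rw [eq_div_iff_mul_eq', mul_comm, u3, he, ← pow_mul, ← pow_mul]
      congr 1; ring
    refine ⟨?_, hb, hcc, he⟩
    have hb2 : b = a ^ (q ^ 3 - 1) := by
      rw [hb, div_eq_iff_eq_mul, ← pow_succ, Nat.sub_add_cancel (Nat.one_le_pow _ _ hq.pos)]
    rw [pow_mul, ← hb2, pow_succ, ← u4, inv_mul_cancel]
  obtain ⟨cT', hcT', hT18, hT14, hT13, hT12⟩ := key t rfl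
  -- the order
  have hkiff : ∀ k : ℕ, (Y * Φ t * Y⁻¹) ^ k = 1 ↔ (q ^ 3 - 1) * (q + 1) ∣ k := by
    intro k
    rw [hYt, ← Subgroup.coe_pow, OneMemClass.coe_eq_one, ← map_pow]
    constructor
    · intro h
      have hker : tupD4 (A ^ k) (u ^ k) ((A ^ q) ^ k) (((A ^ q) ^ q) ^ k) ∈ (chevRel certD4 L).torusHom.ker := by
        rw [MonoidHom.mem_ker]
        refine Eq.trans (congrArg _ ?_) h
        rw [hcT]
        funext i
        obtain ⟨i, hi⟩ := i
        have hi4 : i < 4 := hi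
        interval_cases i <;> simp [tupD4]
      obtain ⟨k0, k1, k2, k3⟩ := mem_kerD4 _ hker
      simp only [tupD4, List.getD_cons_zero, List.getD_cons_succ] at k0 k1 k2 k3
      obtain ⟨h1, h0, -, -, hp⟩ := kerShapeD4 k0 k1 k2 k3
      have hfix : (A ^ k) ^ q = A ^ k := by
        refine Units.ext ?_
        rw [Units.val_pow_eq_pow_val]
        have hv : ((A ^ k : Lˣ) : L) = 1 ∨ ((A ^ k : Lˣ) : L) = -1 := mul_self_eq_one_iff.1 (by
          rw [← Units.val_mul, ← sq, h0, Units.val_one])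
        rcases hv with e | e <;> rw [e, ← hf] <;> simp
      have hA1 : A ^ k = 1 := by
        rw [pow_right_comm A q k, pow_right_comm (A ^ q) q k, pow_right_comm A q k, hfix, hfix, ← sq, h0,
          one_mul] at hp
        exact hp
      have d1 : q ^ 3 - 1 ∣ k := hAord ▸ orderOf_dvd_of_pow_eq_one hA1
      have d2 : q ^ 2 - 1 ∣ k := huord ▸ orderOf_dvd_of_pow_eq_one h1
      obtain ⟨w, rfl⟩ := d1
      refine mul_dvd_mul_left _ ?_
      obtain ⟨d, hd⟩ : ∃ d, q = d + 1 := ⟨q - 1, by omega⟩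
      have e3 : q ^ 3 - 1 = d * (q ^ 2 + q + 1) := by
        refine Nat.sub_eq_of_eq_add ?_
        rw [hd]; ring
      have e2 : q ^ 2 - 1 = d * (q + 1) := by
        refine Nat.sub_eq_of_eq_add ?_
        rw [hd]; ring
      rw [e3, e2, mul_assoc] at d2
      have d3 := (Nat.mul_dvd_mul_iff_left (show 0 < d by omega)).1 d2
      rw [show (q ^ 2 + q + 1) * w = (q + 1) * (q * w) + w by ring] at d3
      exact (Nat.dvd_add_right (dvd_mul_right _ _)).1 d3
    · rintro ⟨w, rfl⟩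
      have hA1 : A ^ ((q ^ 3 - 1) * (q + 1) * w) = 1 := by
        rw [mul_assoc, pow_mul, ← hAord, pow_orderOf_eq_one, one_pow]
      have hu1 : u ^ ((q ^ 3 - 1) * (q + 1) * w) = 1 := by
        refine orderOf_dvd_iff_pow_eq_one.1 (huord ▸ Dvd.dvd.mul_right ?_ w)
        obtain ⟨d, hd⟩ : ∃ d, q = d + 1 := ⟨q - 1, by omega⟩
        refine ⟨q ^ 2 + q + 1, ?_⟩
        rw [show q ^ 3 - 1 = d * (q ^ 2 + q + 1) from Nat.sub_eq_of_eq_add (by rw [hd]; ring),
          show q ^ 2 - 1 = d * (q + 1) from Nat.sub_eq_of_eq_add (by rw [hd]; ring)]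
        ring
      refine Eq.trans (congrArg _ ?_) (map_one (chevRel certD4 L).torusHom)
      rw [hcT]
      funext i
      obtain ⟨i, hi⟩ := i
      have hi4 : i < 4 := hi
      have hA2 : (A ^ q) ^ ((q ^ 3 - 1) * (q + 1) * w) = 1 := by rw [pow_right_comm, hA1, one_pow]
      have hA3 : ((A ^ q) ^ q) ^ ((q ^ 3 - 1) * (q + 1) * w) = 1 := by rw [pow_right_comm, hA2, one_pow]
      interval_cases i <;> simp only [Pi.pow_apply, Pi.one_apply, tupD4, List.getD_cons_zero, List.getD_cons_succ,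
        hu1, hA1, hA2, hA3]
  have hord : orderOf t = (q ^ 3 - 1) * (q + 1) := by
    rw [← orderOf_injective Φ hΦinj t, ← orderOf_injective (MulAut.conj Y).toMonoidHom (MulAut.conj Y).injective]
    refine Nat.dvd_antisymm (orderOf_dvd_of_pow_eq_one ((hkiff _).2 dvd_rfl)) ((hkiff _).1 ?_)
    exact pow_orderOf_eq_one _
  have hn0 : 0 < (q ^ 3 - 1) * (q + 1) := Nat.mul_pos (by omega) (by omega)
  refine ⟨Subgroup.zpowers t, inferInstance, by rw [Nat.card_zpowers, hord], le_antisymm ?_ ?_⟩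
  swap
  · exact Subgroup.le_centralizer _
  intro x hx
  have hxt : x * t = t * x := (Subgroup.mem_centralizer_iff.1 hx t (Subgroup.mem_zpowers t)).symm
  obtain ⟨c, hc, hc18, hc14, hc13, hc12⟩ := key x hxt
  have hvpow : ∀ (r : Fin chevD4.nroots) (k : ℕ), valT (cT' ^ k) r = valT cT' r ^ k := fun r k => by
    induction k with
    | zero => simp [valT]
    | succ k ih => rw [pow_succ, valT_mul, ih, pow_succ]
  have hprim : IsPrimitiveRoot ((valT cT' (rt 18) : Lˣ) : L) ((q ^ 3 - 1) * (q + 1)) := by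
    refine ⟨by rw [← Units.val_pow_eq_pow_val, hT18, Units.val_one], fun l hl => (hkiff l).1 ?_⟩
    have hl' : valT cT' (rt 18) ^ l = 1 := Units.ext (by rw [Units.val_pow_eq_pow_val, hl, Units.val_one])
    have hone : ∀ r, valT (1 : Fin chevD4.rank → Lˣ) r = 1 := fun r => by simp [valT]
    rw [hcT', ← Subgroup.coe_pow, OneMemClass.coe_eq_one, ← map_pow]
    refine (torus_eq_of_simple _ 1 ?_ ?_ ?_ ?_).trans (map_one _)
    · rw [hvpow, hone, hl']
    · rw [hvpow, hone, hT14, div_pow, pow_right_comm, hl', one_pow, div_one]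
    · rw [hvpow, hone, hT13, hT14, div_pow, div_pow, pow_right_comm _ q, pow_right_comm _ (q ^ 3), hl', one_pow,
        one_pow, div_one, div_one]
    · rw [hvpow, hone, hT12, pow_right_comm _ q l, pow_right_comm _ q l, hl', one_pow, one_pow]
  have : NeZero ((q ^ 3 - 1) * (q + 1)) := ⟨hn0.ne'⟩
  obtain ⟨k, -, hk⟩ := hprim.eq_pow_of_pow_eq_one (ξ := ((valT c (rt 18) : Lˣ) : L))
    (by rw [← Units.val_pow_eq_pow_val, hc18, Units.val_one])
  have hk18 : valT cT' (rt 18) ^ k = valT c (rt 18) := Units.ext (by rw [Units.val_pow_eq_pow_val, hk])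
  have hxk : Y * Φ x * Y⁻¹ = (Y * Φ t * Y⁻¹) ^ k := by
    rw [hc, hcT', ← Subgroup.coe_pow, ← map_pow]
    refine congrArg Subtype.val (torus_eq_of_simple c (cT' ^ k) ?_ ?_ ?_ ?_)
    · rw [hvpow, hk18]
    · rw [hvpow, hc14, hT14, div_pow, pow_right_comm, hk18]
    · rw [hvpow, hc13, hT13, hc14, hT14, div_pow, div_pow, pow_right_comm _ q, pow_right_comm _ (q ^ 3), hk18]
    · rw [hvpow, hc12, hT12, pow_right_comm _ q k, pow_right_comm _ q k, hk18]
  rw [conj_pow, ← map_pow] at hxk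
  have hxk' : x = t ^ k := hΦinj (mul_left_cancel (mul_right_cancel hxk))
  rw [hxk']
  exact pow_mem (Subgroup.mem_zpowers t) k

theorem exists_torus_d4 {K : Type*} [Field K] [Fintype K] (q : ℕ) (hq : IsPrimePow q) (hK : Fintype.card K = q ^ 3) :
    ∃ H : Subgroup ↥(twistedD4 K q), IsCyclic ↥H ∧ Nat.card ↥H = (q ^ 3 - 1) * (q + 1) ∧
      Subgroup.centralizer (H : Set ↥(twistedD4 K q)) = H := by
  classical
  obtain ⟨p, hc⟩ := CharP.exists K
  have := hc
  obtain ⟨pa, hp, -⟩ := FiniteField.card K p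
  have : Fact p.Prime := ⟨hp⟩
  let L := FiniteField.Extension K p 2
  have : Finite L := Module.finite_of_finite K
  let : Fintype L := Fintype.ofFinite L
  refine exists_torus_d4_of_extension (L := L) q hq hK ?_
  rw [← Nat.card_eq_fintype_card, show (6 : ℕ) = 3 * 2 from rfl, pow_mul, ← hK, ← Nat.card_eq_fintype_card]
  exact FiniteField.natCard_extension K p 2

end CfsgLib.Known.TrialityTorus
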