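import Mathlib

/-!
# Exponents of the roots of `D₄` at a twisted torus element
-/

set_option autoImplicit false

namespace CfsgLib.Known.TrialityTorus

/-- The Cartan integers of the roots of `D₄`. -/
def cfL : List (List ℤ) :=
 [[0, -1, -1, -1, -1, -2, 1, 1, 1, 1, 0, 0, 0, 0, -1, -1, -1, -1, 2, 1, 1, 1, 1, 0],
  [-1, 1, 0, 0, -1, 1, 0, -1, -1, -2, 1, 1, -1, -1, 2, 1, 1, 0, -1, 1, 0, 0, -1, 1],
  [0, -1, -1, 1, 1, 0, -1, -1, 1, 1, -2, 0, 0, 2, -1, -1, 1, 1, 0, -1, -1, 1, 1, 0],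
  [0, -1, 1, -1, 1, 0, -1, 1, -1, 1, 0, -2, 2, 0, -1, 1, -1, 1, 0, -1, 1, -1, 1, 0]]

/-- An entry of the table. -/
def cf (i : Fin 4) (r : Fin 24) : ℤ := (cfL.getD i []).getD r 0

/-- The exponent of a vector of Cartan integers. -/
def expo (q : ℤ) (d : Fin 4 → ℤ) : ℤ :=
  d 0 * (q ^ 3 + 1) + d 1 * (q ^ 4 + q ^ 2 + 1) + d 2 * ((q ^ 3 + 1) * q) + d 3 * ((q ^ 3 + 1) * q ^ 2)

theorem cf_facts : (∀ i r, -2 ≤ cf i r ∧ cf i r ≤ 2) ∧ (∀ r, ∃ i, cf i r ≠ 0) ∧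
    (∀ r s, (∀ i, cf i r = cf i s) → r = s) := by
  decide +kernel

/-- The two classes of roots with equal values for `q = 2`. -/
def fib (r s : Fin 24) : Bool :=
  (([0, 14, 22] : List (Fin 24)).contains r && ([0, 14, 22] : List (Fin 24)).contains s) ||
    (([1, 9, 23] : List (Fin 24)).contains r && ([1, 9, 23] : List (Fin 24)).contains s)

theorem small_nonzero : ∀ q : Fin 10, 2 ≤ (q : ℕ) →
    ∀ r : Fin 24, expo ((q : ℕ) : ℤ) (fun i => cf i r) % (((q : ℕ) : ℤ) ^ 6 - 1) ≠ 0 := by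
  decide +kernel

theorem small_inj : ∀ q : Fin 10, 2 ≤ (q : ℕ) → ∀ r s : Fin 24,
    expo ((q : ℕ) : ℤ) (fun i => cf i r - cf i s) % (((q : ℕ) : ℤ) ^ 6 - 1) = 0 →
      r = s ∨ ((q : ℕ) = 2 ∧ fib r s = true) := by
  decide +kernel

theorem eq_zero_of_dvd {q : ℤ} (hq : 10 ≤ q) {d : Fin 4 → ℤ} (hd : ∀ i, -4 ≤ d i ∧ d i ≤ 4)
    (h : q ^ 6 - 1 ∣ expo q d) : ∀ i, d i = 0 := by
  obtain ⟨k, hk⟩ := h
  unfold expo at hk
  have hqq : 10 * q ≤ q * q := by nlinarith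
  have h1 : (q + 1) * (q ^ 2 - q + 1) ∣ d 1 * (q ^ 2 + q + 1) * (q ^ 2 - q + 1) :=
    ⟨k * (q ^ 3 - 1) - d 0 - d 2 * q - d 3 * q ^ 2, by linear_combination hk⟩
  have h2 : q + 1 ∣ d 1 * (q ^ 2 + q + 1) := (Int.mul_dvd_mul_iff_right (by nlinarith)).1 h1
  have h3 : q + 1 ∣ d 1 := by
    obtain ⟨w, hw⟩ := h2
    exact ⟨w - d 1 * q, by linear_combination hw⟩
  have d1 : d 1 = 0 := by
    refine Int.eq_zero_of_abs_lt_dvd h3 ?_
    rw [abs_lt]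
    constructor <;> linarith [hd 1]
  have h4 : (q ^ 3 - 1) ∣ 2 * (d 0 + d 2 * q + d 3 * q ^ 2) :=
    ⟨k * (q ^ 3 + 1) - d 0 - d 2 * q - d 3 * q ^ 2, by linear_combination hk - (q ^ 4 + q ^ 2 + 1) * d1⟩
  have h5 : 2 * (d 0 + d 2 * q + d 3 * q ^ 2) = 0 := by
    refine Int.eq_zero_of_abs_lt_dvd h4 ?_
    rw [abs_lt]
    have h8 : 8 * (1 + q + q * q) < q ^ 3 - 1 := by nlinarith
    have := hd 0; have := hd 2; have := hd 3
    constructor <;> nlinarith [mul_le_mul_of_nonneg_right (hd 2).1 (show (0 : ℤ) ≤ q by omega),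
      mul_le_mul_of_nonneg_right (hd 2).2 (show (0 : ℤ) ≤ q by omega),
      mul_le_mul_of_nonneg_right (hd 3).1 (show (0 : ℤ) ≤ q * q by nlinarith),
      mul_le_mul_of_nonneg_right (hd 3).2 (show (0 : ℤ) ≤ q * q by nlinarith)]
  replace h5 : d 0 + d 2 * q + d 3 * q ^ 2 = 0 := (mul_eq_zero.1 h5).resolve_left two_ne_zero
  have d0 : d 0 = 0 := by
    refine Int.eq_zero_of_abs_lt_dvd (m := q) ⟨-(d 2 + d 3 * q), by linear_combination h5⟩ ?_
    rw [abs_lt]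
    constructor <;> linarith [hd 0]
  have h6 : q * (d 2 + d 3 * q) = 0 := by linear_combination h5 - d0
  have h7 : d 2 + d 3 * q = 0 := (mul_eq_zero.1 h6).resolve_left (by omega)
  have d2 : d 2 = 0 := by
    refine Int.eq_zero_of_abs_lt_dvd (m := q) ⟨-d 3, by linear_combination h7⟩ ?_
    rw [abs_lt]
    constructor <;> linarith [hd 2]
  have d3 : d 3 = 0 := by
    rw [d2, zero_add] at h7
    exact (mul_eq_zero.1 h7).resolve_right (by omega)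
  intro i
  fin_cases i <;> assumption

theorem not_dvd {q : ℕ} (hq : 2 ≤ q) (r : Fin 24) : ¬ (q : ℤ) ^ 6 - 1 ∣ expo q (fun i => cf i r) := by
  intro h
  rcases lt_or_ge q 10 with h10 | h10
  · exact small_nonzero ⟨q, h10⟩ hq r (Int.emod_eq_zero_of_dvd h)
  · obtain ⟨i, hi⟩ := cf_facts.2.1 r
    exact hi (eq_zero_of_dvd (by exact_mod_cast h10)
      (fun i => ⟨by linarith [(cf_facts.1 i r).1], by linarith [(cf_facts.1 i r).2]⟩) h i)

theorem eq_of_dvd {q : ℕ} (hq : 2 ≤ q) (r s : Fin 24) (h : (q : ℤ) ^ 6 - 1 ∣ expo q (fun i => cf i r - cf i s)) :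
    r = s ∨ (q = 2 ∧ fib r s = true) := by
  rcases lt_or_ge q 10 with h10 | h10
  · exact small_inj ⟨q, h10⟩ hq r s (Int.emod_eq_zero_of_dvd h)
  · refine Or.inl (cf_facts.2.2 r s fun i => sub_eq_zero.1 (eq_zero_of_dvd (by exact_mod_cast h10)
      (fun i => ?_) h i))
    have := cf_facts.1 i r
    have := cf_facts.1 i s
    constructor <;> linarith

end CfsgLib.Known.TrialityTorus
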